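import Cfsg.Agent.Lib.CosetEnum.HNP.StabCard
import Cfsg.Agent.Lib.CosetEnum.HNP.Steps
import Cfsg.Agent.Lib.CosetEnum.OutTwo

/-!
Centralisers in `P` on 1408 points from stabiliser chains whose bases run along a cycle of the element,
and the data of a triple deciding the automorphisms of `P`.
-/

set_option autoImplicit false

namespace Cfsg.Agent.Lib.CosetEnum.HNP.Out

open Cfsg.Agent.Lib.CosetEnum Cfsg.Agent.Lib.ExactCover

/-- A certificate listing the centraliser of an element. -/
structure CentCert where
  w : List ℕ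
  A : PTree
  gens : List (List ℕ)
  P : PTree
  levels : List OrbLevel
  list : List (List ℕ)

/-- Data of a triple `u, s, t` generating `P`, with candidates for its images. -/
structure TripData where
  u : List ℕ
  s : List ℕ
  t : List ℕ
  r : ℕ
  e : ℕ
  /-- powers of `u` -/
  uPow : List (List ℕ)
  /-- products of `t` with the centraliser of `s` -/
  tw : List (List ℕ)
  /-- for each element `x` centralising `u`: a conjugating element, when `s x` has the order of `s` -/
  conj : List (List ℕ)
  /-- a relator in the letters `u, s, t` -/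
  rel : List ℕ
  /-- elements realising the possible images -/
  settle : List (List ℕ)
  /-- `x, y, z` in the letters `u, s, t` -/
  expr : List (List ℕ)

namespace CentCert

variable (C : CentCert)

/-- The table of the element. -/
noncomputable def T (_ i : ℕ) : ℕ := get32 C.A i

/-- The tables are those of the words. -/
noncomputable def tabOK : Bool :=
  okWord C.w && C.gens.all okWord && C.list.all okWord &&
  allBelow 1408 (fun i => Nat.beq (scan 6 table C.w i) (get32 C.A i)) &&
  allBelow C.gens.length fun k => allBelow 1408 fun i =>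
    Nat.beq (scan 6 table (C.gens.getD k []) i) (get32 C.P (Nat.add (Nat.mul k 1408) i))

/-- The chain has the order of `P` and follows the cycle. -/
noncomputable def chainOK : Bool :=
  levelsOK C.gens.length 1408 C.P C.levels [] && Nat.beq (chainSize C.levels) 177408000 &&
  cycBase C.T 0 C.levels

/-- Every commuting element is listed. -/
noncomputable def searchOK : Bool :=
  allBelow 1408 fun j =>
    siftFail 1408 C.P C.levels (cyc C.T 0 C.levels j) ||
    C.list.any fun w => eqList (cyc C.T 0 C.levels j) (C.levels.map fun l => scan 6 table w l.base)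

variable {C}

theorem cyc_spec (hA : ∀ i < 1408, get32 C.A i = imgPt (val C.w) i) {q : PresentedGroup pres}
    (hq : q * val C.w = val C.w * q) :
    ∀ (ls : List OrbLevel) (l : OrbLevel), (∀ m ∈ l :: ls, m.base < 1408) →
      cycBase C.T 0 (l :: ls) = true →
      (l :: ls).map (fun m => imgPt q m.base) = cyc C.T 0 (l :: ls) (imgPt q l.base) := by
  intro ls
  induction ls with
  | nil => intro l _ _; simp [cyc]
  | cons m ls ih =>
    intro l hlt hb
    simp only [cycBase, Bool.and_eq_true, Nat.beq_eq] at hb
    rw [List.map_cons, ih m (fun x hx => hlt x (List.mem_cons_of_mem _ hx)) hb.2]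
    conv_rhs => rw [cyc, force_eq]
    congr 2
    have hl := hlt l List.mem_cons_self
    have hm : imgPt (val C.w) l.base = m.base := by rw [← hA _ hl]; exact hb.1
    change imgPt q m.base = get32 C.A (imgPt q l.base)
    rw [hA _ (imgPt_lt q _), ← hm, ← imgPt_mul _ _ hl, ← imgPt_mul _ _ hl, hq]

theorem sound (ht : C.tabOK = true) (hc : C.chainOK = true) (hs : C.searchOK = true)
    {q : PresentedGroup pres} (hq : q * val C.w = val C.w * q) : ∃ w ∈ C.list, q = val w := by
  simp only [tabOK, Bool.and_eq_true, List.all_eq_true, allBelow_iff, Nat.beq_eq] at ht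
  obtain ⟨⟨⟨⟨hw, hg⟩, hl⟩, hA⟩, hP⟩ := ht
  simp only [chainOK, Bool.and_eq_true, Nat.beq_eq] at hc
  obtain ⟨⟨hlev, hsize⟩, hcyc⟩ := hc
  have hA' : ∀ i < 1408, get32 C.A i = imgPt (val C.w) i := fun i hi => by
    rw [imgPt_word _ hw hi]; exact (hA i hi).symm
  have hP' : ∀ k < C.gens.length, ∃ x : PresentedGroup pres, ∀ i : Fin 1408,
      ((act x)⁻¹ i).1 = get32 C.P (k * 1408 + i.1) := by
    intro k hk
    have hok := hg _ (List.getD_eq_getElem C.gens [] hk ▸ List.getElem_mem hk)
    exact ⟨_, fun i => by rw [act_word _ (okWord_iff.1 hok)]; exact hP k hk i.1 i.2⟩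
  obtain ⟨hcard, hinj⟩ := card_P
  haveI := finite
  have hfix : Nat.card (fixList (N := 1408) act []) ≤ chainSize C.levels := by
    rw [hsize, ← hcard]
    exact (Nat.card_le_card_of_injective (fun σ : fixList act [] => (⟨σ.1, σ.2.1⟩ : act.range))
      fun _ _ huv => Subtype.ext (congrArg (fun z : act.range => (z.1 : Equiv.Perm (Fin 1408))) huv)).trans
      (Nat.card_le_card_of_surjective _ act.rangeRestrict_surjective)
  have htight := tight_of_levels act hP' C.levels [] hlev hfix
  have hlt := levels_base hlev
  rcases hls : C.levels with _ | ⟨l, ls⟩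
  · rw [hls] at hsize
    simp [chainSize] at hsize
  rw [hls] at hcyc hlev htight hlt
  have heq := cyc_spec hA' hq ls l hlt hcyc
  have hmem : (act q)⁻¹ ∈ fixList act [] := ⟨⟨q⁻¹, map_inv _ _⟩, by simp⟩
  have hnat : (l :: ls).map (fun m => natApply (act q)⁻¹ m.base) =
      (l :: ls).map fun m => imgPt q m.base := by
    refine List.map_congr_left fun m hm => ?_
    simp [natApply, imgPt, hlt m hm]
  have h := allBelow_iff.1 hs _ (imgPt_lt q l.base)
  rw [hls, ← heq, Bool.or_eq_true, List.any_eq_true] at h
  rcases h with h | ⟨w, hwl, h⟩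
  · exact (siftFail_sound act hP' _ _ htight hlev _ hmem (by rw [hnat]; exact h)).elim
  · refine ⟨w, hwl, mul_inv_eq_one.1 (hinj ?_)⟩
    rw [map_one, ← inv_eq_one]
    refine Tight.eq_one act htight _ ⟨⟨_, map_inv _ _⟩, by simp⟩ fun m hm b hb => ?_
    have hpt : imgPt q m.base = scan 6 table w m.base :=
      List.map_inj_left.1 (eqList_eq h) m hm
    rw [map_mul, map_inv, mul_inv_rev, inv_inv, Equiv.Perm.mul_apply]
    have hh : (act q)⁻¹ b = (act (val w))⁻¹ b := by
      apply Fin.ext
      rw [act_word _ (okWord_iff.1 (hl w hwl)), hb]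
      have : imgPt q b.1 = ((act q)⁻¹ b).1 := by simp [imgPt, b.2]
      rw [← this, hb]
      exact hpt
    rw [hh]
    simp

end CentCert

/-! ### The triple -/

/-- The word of a product in the letters `u, s, t`. -/
def sub3 (a b c : List ℕ) (w : List ℕ) : List ℕ := subst a b c w

/-- The automorphism `z ↦ z x²` on words. -/
def psiWord (w : List ℕ) : List ℕ := w.flatMap fun g => bif Nat.blt g 4 then [g] else [4, 0, 0]

namespace TripData

variable (D : TripData)

/-- Relations among `u, s, t`, and the possible images of `s`. -/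
noncomputable def baseOK (cu cs : List (List ℕ)) : Bool :=
  okWord D.u && okWord D.s && okWord D.t && D.uPow.all okWord && D.tw.all okWord &&
  D.conj.all okWord && D.settle.all okWord && cu.all okWord && cs.all okWord &&
  D.rel.all (fun i => Nat.blt i 3) && wordEq (sub3 D.u D.s D.t D.rel) [] &&
  D.expr.all (fun w => w.all fun i => Nat.blt i 3) &&
  allBelow 3 (fun i => wordEq (sub3 D.u D.s D.t (D.expr.getD i [])) [Nat.mul 2 i]) &&
  Nat.beq D.uPow.length 11 && decide (D.uPow.getD 0 [] = []) &&
  allBelow 10 (fun k => wordEq (D.uPow.getD (Nat.succ k) []) (D.uPow.getD k [] ++ D.u)) &&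
  wordEq (D.uPow.getD 10 [] ++ D.u) [] && !(wordEq D.u []) &&
  wordEq (D.s ++ D.u) ((List.replicate D.r D.u).flatten ++ D.s) &&
  wordEq (List.replicate 5 D.s).flatten [] &&
  wordEq (D.t ++ D.s) ((List.replicate D.e D.s).flatten ++ D.t) &&
  cu.all (fun x => wordEq (x ++ D.u) (D.u ++ x)) &&
  allBelow cu.length (fun i =>
    !(wordEq (List.replicate 5 (D.s ++ cu.getD i [])).flatten []) ||
    (decide (D.conj.getD i [] ∈ cu) &&
      wordEq (D.s ++ cu.getD i [] ++ D.conj.getD i []) (D.conj.getD i [] ++ D.s))) &&
  allBelow cs.length (fun i => wordEq (D.tw.getD i []) (D.t ++ cs.getD i []))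

/-- Whether the image `(u^k, s, t w)` is refuted or realised. -/
noncomputable def candOK (k i : ℕ) : Bool :=
  !(wordEq (sub3 (D.uPow.getD k []) D.s (D.tw.getD i []) D.rel) []) ||
  D.settle.any fun g => wordEq (g ++ D.s) (D.s ++ g) &&
    ((wordEq (g ++ D.u) (D.uPow.getD k [] ++ g) && wordEq (g ++ D.t) (D.tw.getD i [] ++ g)) ||
      (wordEq (psiWord D.s) D.s && wordEq (g ++ psiWord D.u) (D.uPow.getD k [] ++ g) &&
        wordEq (g ++ psiWord D.t) (D.tw.getD i [] ++ g)))

end TripData

end Cfsg.Agent.Lib.CosetEnum.HNP.Out
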