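import Cfsg.Agent.Lib.CosetEnum.HNP.Group
import Cfsg.Agent.Lib.CosetEnum.HNP.Out.Defs

/-!
Every injective endomorphism of `P` is inner, or inner after the automorphism `z ↦ z x²`.
-/

set_option autoImplicit false

namespace Cfsg.Agent.Lib.CosetEnum.HNP.Out

open Cfsg.Agent.Lib.CosetEnum Cfsg.Agent.Lib.ExactCover

theorem wordEq_of_val {u v : List ℕ} (hu : okWord u = true) (hv : okWord v = true)
    (h : val u = val v) : wordEq u v = true := by
  simp only [wordEq, Bool.and_eq_true, List.all_eq_true, Nat.beq_eq]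
  refine ⟨⟨hu, hv⟩, fun b hb => ?_⟩
  have hb' : b < 1408 := by
    simp only [List.mem_cons, List.not_mem_nil, or_false] at hb; omega
  rw [← imgPt_word u hu hb', ← imgPt_word v hv hb', h]

theorem okWord_replicate {w : List ℕ} (hw : okWord w = true) :
    ∀ n, okWord (List.replicate n w).flatten = true := by
  intro n
  induction n with
  | zero => rfl
  | succ n ih => rw [List.replicate_succ, List.flatten_cons]; exact okWord_append hw ih

theorem val_replicate (w : List ℕ) : ∀ n, val (List.replicate n w).flatten = val w ^ n := by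
  intro n
  induction n with
  | zero => simp [val_nil]
  | succ n ih => rw [List.replicate_succ, List.flatten_cons, val_append, ih, pow_succ']

theorem val_sub3 (a b c : List ℕ) : ∀ w : List ℕ, (∀ i ∈ w, i < 3) →
    val (sub3 a b c w) = (w.map fun i => [val a, val b, val c].getD i 1).prod := by
  intro w
  induction w with
  | nil => intro _; rfl
  | cons i w ih =>
    intro hw
    rw [List.map_cons, List.prod_cons, ← ih fun x hx => hw x (List.mem_cons_of_mem _ hx), sub3, sub3,
      subst, subst, List.flatMap_cons, val_append]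
    congr 1
    match i, hw i List.mem_cons_self with
    | 0, _ => rfl
    | 1, _ => rfl
    | 2, _ => rfl

theorem okWord_sub3 {a b c : List ℕ} (ha : okWord a = true) (hb : okWord b = true) (hc : okWord c = true) :
    ∀ w : List ℕ, (∀ i ∈ w, i < 3) → okWord (sub3 a b c w) = true := by
  intro w
  induction w with
  | nil => intro _; rfl
  | cons i w ih =>
    intro hw
    rw [sub3, subst, List.flatMap_cons]
    refine okWord_append ?_ (ih fun x hx => hw x (List.mem_cons_of_mem _ hx))
    match i, hw i List.mem_cons_self with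
    | 0, _ => exact ha
    | 1, _ => exact hb
    | 2, _ => exact hc

theorem psi_rels : ∀ r ∈ pres, FreeGroup.lift
    (![val [0], val [2], val [4, 0, 0]] : Fin 3 → PresentedGroup pres) r = 1 := by
  intro r hr
  obtain ⟨l, hl, rfl⟩ := List.mem_map.1 hr
  have key : ∀ l ∈ relWords, wordEq (psiWord l) [] = true := by decide +kernel
  have hlt : ∀ l ∈ relWords, ∀ g ∈ l, g < 6 := by decide +kernel
  have h := val_eq_of_wordEq (key l hl)
  rw [val_nil] at h
  rw [← h]
  clear h key
  have hl' := hlt l hl
  clear hl hr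
  induction l with
  | nil => simp [psiWord, val_nil, ← FreeGroup.one_eq_mk]
  | cons g l ih =>
    rw [show psiWord (g :: l) = (bif Nat.blt g 4 then [g] else [4, 0, 0]) ++ psiWord l from rfl,
      val_append, ← ih fun x hx => hl' x (List.mem_cons_of_mem _ hx), List.map_cons,
      show ∀ (s : Fin 3 × Bool) L, FreeGroup.mk (s :: L) = FreeGroup.mk [s] * FreeGroup.mk L from
        fun s L => rfl, map_mul]
    congr 1
    have hg := hl' g List.mem_cons_self
    have h1 : val [1] = (val [0])⁻¹ := val_flip (g := 0) (by omega)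
    have h3 : val [3] = (val [2])⁻¹ := val_flip (g := 2) (by omega)
    have h5 : val [4, 0, 0] = (val [4, 0, 0])⁻¹ := by
      rw [← val_invWord _ (by decide)]
      exact val_eq_of_wordEq (by decide +kernel)
    interval_cases g
    · simp [stdSym, FreeGroup.lift_mk]; rfl
    · simp [stdSym, FreeGroup.lift_mk, ← h1]; rfl
    · simp [stdSym, FreeGroup.lift_mk]; rfl
    · simp [stdSym, FreeGroup.lift_mk]; exact h3.symm
    · simp [stdSym, FreeGroup.lift_mk]; rfl
    · simp [stdSym, FreeGroup.lift_mk, ← h5]; rfl

/-- The automorphism `z ↦ z x²`. -/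
noncomputable def psi : PresentedGroup pres →* PresentedGroup pres := PresentedGroup.toGroup psi_rels

theorem psi_val : ∀ w : List ℕ, okWord w = true → psi (val w) = val (psiWord w) := by
  intro w
  induction w with
  | nil => intro _; simp [psiWord, val_nil]
  | cons g w ih =>
    intro hw
    simp only [okWord, List.all_cons, Bool.and_eq_true, Nat.blt_eq] at hw
    rw [show psiWord (g :: w) = (bif Nat.blt g 4 then [g] else [4, 0, 0]) ++ psiWord w from rfl,
      show g :: w = [g] ++ w from rfl, val_append, val_append, map_mul, ih hw.2]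
    congr 1
    have h0 : psi (val [0]) = val [0] := by
      rw [show ([0] : List ℕ) = [2 * (0 : Fin 3).val] from rfl, val_gen]; exact PresentedGroup.toGroup.of psi_rels
    have h2 : psi (val [2]) = val [2] := by
      rw [show ([2] : List ℕ) = [2 * (1 : Fin 3).val] from rfl, val_gen, psi]
      exact (PresentedGroup.toGroup.of psi_rels).trans (val_gen 1).symm
    have h4 : psi (val [4]) = val [4, 0, 0] := by
      rw [show ([4] : List ℕ) = [2 * (2 : Fin 3).val] from rfl, val_gen]; exact PresentedGroup.toGroup.of psi_rels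
    have h1 : val [1] = (val [0])⁻¹ := val_flip (g := 0) (by omega)
    have h3 : val [3] = (val [2])⁻¹ := val_flip (g := 2) (by omega)
    have h5 : val [5] = val [4] := val_eq_of_wordEq (by decide +kernel)
    have hg := hw.1
    interval_cases g
    · exact h0
    · show psi (val [1]) = val [1]; rw [h1, map_inv, h0]
    · exact h2
    · show psi (val [3]) = val [3]; rw [h3, map_inv, h2]
    · exact h4
    · show psi (val [5]) = val [4, 0, 0]; rw [h5, h4]

theorem exists_aut_P {D : TripData} {Cu Cs : CentCert}
    (hu : Cu.w = D.u) (hs : Cs.w = D.s)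
    (hCu : Cu.tabOK = true ∧ Cu.chainOK = true ∧ Cu.searchOK = true)
    (hCs : Cs.tabOK = true ∧ Cs.chainOK = true ∧ Cs.searchOK = true)
    (hb : D.baseOK Cu.list Cs.list = true)
    (hcand : ∀ k < 10, ∀ i < Cs.list.length, D.candOK (k + 1) i = true)
    (β : PresentedGroup pres →* PresentedGroup pres) (hβ : Function.Injective β) :
    ∃ q, (∀ p, β p = q * p * q⁻¹) ∨ ∀ p, β p = q * psi p * q⁻¹ := by
  haveI := finite
  haveI : Fact (Nat.Prime 11) := ⟨by norm_num⟩
  simp only [TripData.baseOK, Bool.and_eq_true, List.all_eq_true, Nat.blt_eq, Nat.beq_eq,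
    allBelow_iff, decide_eq_true_eq, Bool.or_eq_true, Bool.not_eq_true'] at hb
  obtain ⟨⟨⟨⟨⟨⟨⟨⟨⟨⟨⟨⟨⟨⟨⟨⟨⟨⟨⟨⟨⟨⟨⟨okU, okS⟩, okT⟩, okPow⟩, okTw⟩, okConj⟩, okSet⟩, okCu⟩, okCs⟩,
    hrel3⟩, hrel⟩, hexp3⟩, hexp⟩, hlen⟩, hp0⟩, hps⟩, hp10⟩, hune⟩, hsu⟩, hs5⟩, hts⟩, hucomm⟩, hshift⟩, htw⟩ :=
    hb
  set u := val D.u with hudef
  set s := val D.s with hsdef
  set t := val D.t with htdef
  have hpowmem : ∀ k < 11, okWord (D.uPow.getD k []) = true := fun k hk =>
    okPow _ (List.getD_eq_getElem D.uPow [] (hlen ▸ hk) ▸ List.getElem_mem (hlen ▸ hk))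
  have hpow : ∀ k < 11, val (D.uPow.getD k []) = u ^ k := by
    intro k
    induction k with
    | zero => intro _; rw [hp0, val_nil, pow_zero]
    | succ k ih =>
      intro hk
      have := val_eq_of_wordEq (hps k (by omega))
      rw [this, val_append, ih (by omega), pow_succ]
  have hu11 : u ^ 11 = 1 := by
    have := val_eq_of_wordEq hp10
    rw [val_append, hpow 10 (by omega), val_nil, ← pow_succ] at this
    exact this
  have hu1 : u ≠ 1 := fun h => by
    rw [wordEq_of_val okU rfl (h.trans val_nil.symm)] at hune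
    exact Bool.noConfusion hune
  have hou : orderOf u = 11 := orderOf_eq_prime hu11 hu1
  have hsu' : s * u = u ^ D.r * s := by
    have := val_eq_of_wordEq hsu
    rwa [val_append, val_append, val_replicate] at this
  have hts' : t * s = s ^ D.e * t := by
    have := val_eq_of_wordEq hts
    rwa [val_append, val_append, val_replicate] at this
  have hs5' : s ^ 5 = 1 := by
    have := val_eq_of_wordEq hs5
    rwa [val_replicate, val_nil] at this
  -- dense
  have hdense : ∀ f g : PresentedGroup pres →* PresentedGroup pres,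
      f u = g u → f s = g s → f t = g t → ∀ p, f p = g p := by
    intro f g a1 a2 a3
    have he : ∀ i : Fin 3, f (PresentedGroup.of i) = g (PresentedGroup.of i) := by
      intro i
      have hw := val_eq_of_wordEq (hexp i.1 i.2)
      rw [val_sub3 _ _ _ _ (hexp3 _ (by
        rcases lt_or_ge i.1 D.expr.length with h | h
        · rw [List.getD_eq_getElem _ _ h]; exact List.getElem_mem h
        · exfalso
          have hw' := hexp i.1 i.2
          rw [List.getD_eq_default _ _ h] at hw'
          simp only [sub3, subst, List.flatMap_nil] at hw'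
          fin_cases i <;> revert hw' <;> decide +kernel))] at hw
      rw [show Nat.mul 2 i.1 = 2 * i.1 from rfl, val_gen] at hw
      rw [← hw, map_list_prod, map_list_prod, List.map_map, List.map_map]
      refine congrArg _ (List.map_congr_left fun j _ => ?_)
      rcases lt_or_ge j 3 with hj | hj
      · interval_cases j
        · exact a1
        · exact a2
        · exact a3
      · simp only [Function.comp_apply]
        rw [List.getD_eq_default _ _ (show [val D.u, val D.s, val D.t].length ≤ j from hj), map_one, map_one]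
    exact fun p => DFunLike.congr_fun (PresentedGroup.ext he) p
  -- Sylow
  have hcard := card_P.1
  have hzc : ∀ v : PresentedGroup pres, orderOf v = 11 →
      Nat.card (Subgroup.zpowers v) = 11 ^ (Nat.card (PresentedGroup pres)).factorization 11 := by
    intro v hv
    have h1 : (177408000 : ℕ).factorization 11 = 1 := by
      have a1 : 1 ≤ (177408000 : ℕ).factorization 11 :=
        ((by norm_num : Nat.Prime 11).pow_dvd_iff_le_factorization (by norm_num)).1 (by norm_num)
      have a2 : ¬ 2 ≤ (177408000 : ℕ).factorization 11 := fun hh =>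
        absurd (((by norm_num : Nat.Prime 11).pow_dvd_iff_le_factorization (by norm_num)).2 hh) (by norm_num)
      omega
    rw [Nat.card_zpowers, hv, hcard, h1, pow_one]
  have hoβ : orderOf (β u) = 11 := by rw [orderOf_injective β hβ, hou]
  obtain ⟨g, hg⟩ := MulAction.exists_smul_eq (PresentedGroup pres)
    (Sylow.ofCard _ (hzc u hou)) (Sylow.ofCard _ (hzc (β u) hoβ))
  have hgmem : g⁻¹ * β u * g ∈ Subgroup.zpowers u := by
    have : β u ∈ ((g • Sylow.ofCard _ (hzc u hou) : Sylow 11 _) : Subgroup (PresentedGroup pres)) := by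
      rw [hg]; exact Subgroup.mem_zpowers _
    rw [Sylow.coe_subgroup_smul, Subgroup.mem_pointwise_smul_iff_inv_smul_mem] at this
    simpa [MulAut.smul_def, mul_assoc] using this
  obtain ⟨k0, hk0'⟩ := (Submonoid.mem_powers_iff _ _).1 (mem_powers_iff_mem_zpowers.2 hgmem)
  obtain ⟨k, hk, hkeq⟩ : ∃ k < 11, g⁻¹ * β u * g = u ^ k := by
    refine ⟨k0 % 11, Nat.mod_lt _ (by omega), ?_⟩
    rw [← hk0', ← hou, pow_mod_orderOf]
  have hk0 : k ≠ 0 := by
    intro h
    rw [h, pow_zero] at hkeq
    refine hu1 (hβ ?_)
    calc β u = g * (g⁻¹ * β u * g) * g⁻¹ := by group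
      _ = 1 := by rw [hkeq]; group
      _ = β 1 := (map_one β).symm
  obtain ⟨k', hk'⟩ : ∃ k' : ℕ, u = (u ^ k) ^ k' := by
    have hcop : Nat.Coprime k 11 := by
      rw [Nat.coprime_comm, (by norm_num : Nat.Prime 11).coprime_iff_not_dvd]
      intro h; exact hk0 (Nat.eq_zero_of_dvd_of_lt h hk)
    obtain ⟨m, hm⟩ := exists_pow_eq_self_of_coprime (x := u) (by rwa [hou])
    exact ⟨m, hm.symm⟩
  -- after conjugation
  let β' : PresentedGroup pres →* PresentedGroup pres := (MulAut.conj g⁻¹).toMonoidHom.comp β
  have hβ' : ∀ p, β' p = g⁻¹ * β p * g := fun p => by simp [β', MulAut.conj_apply]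
  have hβu : β' u = u ^ k := by rw [hβ', hkeq]
  obtain ⟨x, hxmem, hx⟩ : ∃ x ∈ Cu.list, s⁻¹ * β' s = val x := by
    refine CentCert.sound hCu.1 hCu.2.1 hCu.2.2 ?_
    rw [hu, ← hudef]
    have h1 : β' s * u ^ k = s * u ^ k * s⁻¹ * β' s := by
      have hb' : s * u ^ k * s⁻¹ = (u ^ k) ^ D.r := by
        rw [← conj_pow, show s * u * s⁻¹ = u ^ D.r by rw [hsu']; group, ← pow_mul, ← pow_mul, mul_comm]
      rw [hb', ← hβu, ← map_pow, ← map_mul, ← map_mul, hsu']
    have h2 : (s⁻¹ * β' s) * u ^ k = u ^ k * (s⁻¹ * β' s) := by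
      rw [mul_assoc, h1]; group
    rw [hk']
    exact (Commute.pow_right h2 k').eq
  obtain ⟨j, hj, hjx⟩ := List.mem_iff_getElem.1 hxmem
  have hcj := hshift j hj
  have hβs : β' s = s * val x := by rw [← hx]; group
  have hxj : Cu.list.getD j [] = x := by rw [List.getD_eq_getElem _ _ hj, hjx]
  have hokx : okWord x = true := okCu x hxmem
  rcases hcj with hbad | ⟨hmmem, hm⟩
  · exfalso
    have h5 : val (List.replicate 5 (D.s ++ x)).flatten = 1 := by
      rw [val_replicate, val_append, ← hβs, ← map_pow, hs5', map_one]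
    rw [hxj, wordEq_of_val (okWord_replicate (okWord_append okS hokx) 5) rfl (h5.trans val_nil.symm)] at hbad
    exact Bool.noConfusion hbad
  set m := val (D.conj.getD j []) with hmdef
  have hmu : m * u = u * m := by
    have := val_eq_of_wordEq (hucomm _ hmmem)
    rwa [val_append, val_append] at this
  have hm' : β' s = m * s * m⁻¹ := by
    have := val_eq_of_wordEq hm
    rw [hxj, val_append, val_append, val_append, ← hmdef, ← hsdef, ← hβs] at this
    rw [← this]; group
  let β'' : PresentedGroup pres →* PresentedGroup pres := (MulAut.conj m⁻¹).toMonoidHom.comp β'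
  have hβ'' : ∀ p, β'' p = m⁻¹ * β' p * m := fun p => by simp [β'', MulAut.conj_apply]
  have hu'' : β'' u = u ^ k := by
    rw [hβ'', hβu]
    have : u ^ k * m = m * u ^ k := (Commute.pow_right (show Commute m u from hmu) k).eq.symm
    rw [mul_assoc, this]; group
  have hs'' : β'' s = s := by rw [hβ'', hm']; group
  obtain ⟨w, hwmem, hw⟩ : ∃ w ∈ Cs.list, t⁻¹ * β'' t = val w := by
    refine CentCert.sound hCs.1 hCs.2.1 hCs.2.2 ?_
    rw [hs, ← hsdef]
    have h1 : β'' t * s = s ^ D.e * β'' t := by
      conv_lhs => rw [← hs'']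
      rw [← map_mul, hts', map_mul, map_pow, hs'']
    rw [mul_assoc, h1, ← mul_assoc, ← mul_assoc]
    congr 1
    rw [show s ^ D.e = t * s * t⁻¹ by rw [hts']; group]
    group
  obtain ⟨i, hi, hiw⟩ := List.mem_iff_getElem.1 hwmem
  have ht'' : β'' t = val (D.tw.getD i []) := by
    rw [val_eq_of_wordEq (htw i hi), List.getD_eq_getElem _ _ hi, hiw, val_append, ← htdef, ← hw]
    group
  have hc := hcand (k - 1) (by omega) i hi
  rw [Nat.sub_add_cancel (Nat.pos_of_ne_zero hk0)] at hc
  simp only [TripData.candOK, Bool.or_eq_true, List.any_eq_true, Bool.and_eq_true,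
    Bool.not_eq_true'] at hc
  have hfin : ∀ (f : PresentedGroup pres →* PresentedGroup pres) (h : PresentedGroup pres),
      h * f u = u ^ k * h → h * f s = s * h → h * f t = β'' t * h →
      ∀ p, β p = (g * m * h) * f p * (g * m * h)⁻¹ := by
    intro f h a1 a2 a3
    have key := hdense β'' ((MulAut.conj h).toMonoidHom.comp f)
      (by rw [hu'']; simp only [MonoidHom.comp_apply, MulEquiv.coe_toMonoidHom, MulAut.conj_apply, a1]; group)
      (by rw [hs'']; simp only [MonoidHom.comp_apply, MulEquiv.coe_toMonoidHom, MulAut.conj_apply, a2]; group)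
      (by simp only [MonoidHom.comp_apply, MulEquiv.coe_toMonoidHom, MulAut.conj_apply, a3]; group)
    intro p
    have := key p
    rw [hβ'', hβ'] at this
    simp only [MonoidHom.comp_apply, MulEquiv.coe_toMonoidHom, MulAut.conj_apply] at this
    calc β p = g * m * (m⁻¹ * (g⁻¹ * β p * g) * m) * m⁻¹ * g⁻¹ := by group
      _ = _ := by rw [this]; group
  have hokTw : okWord (D.tw.getD i []) = true := (okWord_of_wordEq (htw i hi)).1
  rcases hc with hbad | ⟨h, hh, hgs, hcase⟩
  · exfalso
    have h1 : val (sub3 (D.uPow.getD k []) D.s (D.tw.getD i []) D.rel) = 1 := by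
      have hr := val_eq_of_wordEq hrel
      rw [val_sub3 _ _ _ _ hrel3, val_nil] at hr
      rw [val_sub3 _ _ _ _ hrel3, ← map_one β'', ← hr, map_list_prod, List.map_map]
      refine congrArg List.prod (List.map_congr_left fun j hj => ?_)
      match j, hrel3 j hj with
      | 0, _ => exact (hpow k hk).trans hu''.symm
      | 1, _ => exact hs''.symm
      | 2, _ => exact ht''.symm
    rw [wordEq_of_val (okWord_sub3 (hpowmem k hk) okS hokTw _ hrel3) rfl (h1.trans val_nil.symm)] at hbad
    exact Bool.noConfusion hbad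
  have hgs' : val h * s = s * val h := by
    have := val_eq_of_wordEq hgs
    rwa [val_append, val_append] at this
  rcases hcase with ⟨hgu, hgt⟩ | ⟨⟨hps', hgu⟩, hgt⟩
  · refine ⟨g * m * val h, Or.inl (hfin (MonoidHom.id _) (val h) ?_ hgs' ?_)⟩
    · have := val_eq_of_wordEq hgu
      rwa [val_append, val_append, hpow k hk] at this
    · have := val_eq_of_wordEq hgt
      rwa [val_append, val_append, ← ht''] at this
  · refine ⟨g * m * val h, Or.inr (hfin psi (val h) ?_ ?_ ?_)⟩
    · have := val_eq_of_wordEq hgu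
      rw [psi_val _ okU]
      rwa [val_append, val_append, hpow k hk] at this
    · rw [psi_val _ okS, val_eq_of_wordEq hps']; exact hgs'
    · have := val_eq_of_wordEq hgt
      rw [psi_val _ okT]
      rwa [val_append, val_append, ← ht''] at this

end Cfsg.Agent.Lib.CosetEnum.HNP.Out
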