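import Cfsg.Agent.Lib.CosetEnum.HNP.Out.AutP
import Cfsg.Agent.Lib.CosetEnum.HNP.Out.Data

/-! Kernel checks for the automorphisms of `P`. -/

set_option autoImplicit false
set_option maxRecDepth 100000
set_option Elab.async false

namespace Cfsg.Agent.Lib.CosetEnum.HNP.Out

open Cfsg.Agent.Lib.CosetEnum

theorem centU_tabOK : centU.tabOK = true := by decide +kernel

theorem centU_chainOK : centU.chainOK = true := by decide +kernel

theorem centU_searchOK : centU.searchOK = true := by decide +kernel

theorem centS_tabOK : centS.tabOK = true := by decide +kernel

theorem centS_chainOK : centS.chainOK = true := by decide +kernel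

theorem centS_searchOK : centS.searchOK = true := by decide +kernel

theorem centV_tabOK : centV.tabOK = true := by decide +kernel

theorem centV_chainOK : centV.chainOK = true := by decide +kernel

theorem centV_searchOK : centV.searchOK = true := by decide +kernel

theorem trip_base : trip.baseOK centU.list centS.list = true := by decide +kernel

theorem trip_cand0 : allBelow 100 (trip.candOK 1) = true := by decide +kernel

theorem trip_cand1 : allBelow 100 (trip.candOK 2) = true := by decide +kernel

theorem trip_cand2 : allBelow 100 (trip.candOK 3) = true := by decide +kernel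

theorem trip_cand3 : allBelow 100 (trip.candOK 4) = true := by decide +kernel

theorem trip_cand4 : allBelow 100 (trip.candOK 5) = true := by decide +kernel

theorem trip_cand5 : allBelow 100 (trip.candOK 6) = true := by decide +kernel

theorem trip_cand6 : allBelow 100 (trip.candOK 7) = true := by decide +kernel

theorem trip_cand7 : allBelow 100 (trip.candOK 8) = true := by decide +kernel

theorem trip_cand8 : allBelow 100 (trip.candOK 9) = true := by decide +kernel

theorem trip_cand9 : allBelow 100 (trip.candOK 10) = true := by decide +kernel

theorem centS_length : centS.list.length = 100 := by decide +kernel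

theorem trip_cand : ∀ k < 10, ∀ i < centS.list.length, trip.candOK (k + 1) i = true := by
  intro k hk i hi
  rw [centS_length] at hi
  interval_cases k
  · exact allBelow_iff.1 trip_cand0 i hi
  · exact allBelow_iff.1 trip_cand1 i hi
  · exact allBelow_iff.1 trip_cand2 i hi
  · exact allBelow_iff.1 trip_cand3 i hi
  · exact allBelow_iff.1 trip_cand4 i hi
  · exact allBelow_iff.1 trip_cand5 i hi
  · exact allBelow_iff.1 trip_cand6 i hi
  · exact allBelow_iff.1 trip_cand7 i hi
  · exact allBelow_iff.1 trip_cand8 i hi
  · exact allBelow_iff.1 trip_cand9 i hi

theorem aut_P (β : PresentedGroup pres →* PresentedGroup pres) (hβ : Function.Injective β) :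
    ∃ q, (∀ p, β p = q * p * q⁻¹) ∨ ∀ p, β p = q * psi p * q⁻¹ :=
  exists_aut_P rfl rfl ⟨centU_tabOK, centU_chainOK, centU_searchOK⟩
    ⟨centS_tabOK, centS_chainOK, centS_searchOK⟩ trip_base trip_cand β hβ

end Cfsg.Agent.Lib.CosetEnum.HNP.Out
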