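import Cfsg.Agent.Lib.CosetEnum.HNP.Out.Points

/-!
The outer automorphism group of the presented Harada-Norton group has order two.

An element of order 11 of `P` fixes only the base point, so an automorphism can be composed with an inner
one to fix the central involution of `P`, so to normalise `P`; then it can be made to fix `P` pointwise,
and the image of `t` is found among the fixed points of the centraliser of `t` in `P`.
-/

set_option autoImplicit false
set_option maxRecDepth 100000

namespace Cfsg.Agent.Lib.CosetEnum.HNP.Out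

open Cfsg Cfsg.Agent.Lib.CosetEnum Cfsg.Agent.Lib.ExactCover

/-- The central involution of `P`. -/
noncomputable def cP : PresentedGroup pres := val [0, 0]

theorem cP_comm (p : PresentedGroup pres) : p * cP = cP * p := by
  obtain ⟨u, hu, rfl⟩ := exists_word p
  have h : ∀ g < 6, wordEq ([g] ++ [0, 0]) ([0, 0] ++ [g]) = true := by decide +kernel
  induction u with
  | nil => simp [val_nil]
  | cons g u ih =>
    simp only [okWord, List.all_cons, Bool.and_eq_true, Nat.blt_eq] at hu
    have h2 := val_eq_of_wordEq (h g hu.1)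
    rw [val_append, val_append] at h2
    rw [show g :: u = [g] ++ u from rfl, val_append, mul_assoc, ih hu.2, ← mul_assoc, cP, h2, mul_assoc]

theorem cP_sq : cP * cP = 1 := by
  rw [cP, ← val_append, ← val_nil]
  exact val_eq_of_wordEq (by decide +kernel)

theorem val_ne_one {w : List ℕ} (hw : okWord w = true) (h : wordEq w [] = false) : val w ≠ 1 := by
  intro he
  rw [wordEq_of_val hw rfl (he.trans val_nil.symm)] at h
  exact Bool.noConfusion h

theorem cP_ne : cP ≠ 1 := val_ne_one (by decide) (by decide +kernel)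

instance finiteHN : Finite Cfsg.Spor.HN := Nat.finite_of_card_ne_zero (by rw [card_HN]; norm_num)

theorem toHN_eq_one {p : PresentedGroup pres} : toHN p = 1 ↔ p = 1 :=
  ⟨fun h => toHN_injective (by rw [h, map_one]), fun h => by rw [h, map_one]⟩

theorem t_ne : setting.t ≠ 1 := by
  intro h
  have htop : toHN.range = ⊤ := by
    rw [eq_top_iff, ← gens_top, Subgroup.closure_le]
    rintro y (⟨q, rfl⟩ | rfl)
    · exact ⟨q, rfl⟩
    · rw [h]; exact one_mem _
  have := index_range
  rw [htop, Subgroup.index_top] at this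
  omega

/-- The image of `P` is the centraliser of its central involution. -/
theorem range_eq_centralizer (z : Cfsg.Spor.HN) : z ∈ toHN.range ↔ z * toHN cP = toHN cP * z := by
  haveI := simple_HN
  constructor
  · rintro ⟨p, rfl⟩
    rw [← map_mul, ← map_mul, cP_comm]
  · intro hz
    set M := Subgroup.centralizer ({toHN cP} : Set Cfsg.Spor.HN) with hMdef
    have hM : toHN.range ≤ M := by
      rintro _ ⟨p, rfl⟩
      rw [hMdef, Subgroup.mem_centralizer_singleton_iff, ← map_mul, ← map_mul, cP_comm]
    have hz' : z ∈ M := by rw [hMdef, Subgroup.mem_centralizer_singleton_iff]; exact hz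
    by_contra hzn
    have htop : M = ⊤ := by
      refine fullCert.maximal (paths := paths) (cs := climbs) (by decide +kernel) (by decide +kernel) ?_ M
        hM fun h => hzn (h hz')
      rw [fullCert.g_eq_path (paths := paths) (by decide +kernel) 1 (by decide)]
      have hp : paths.getD 1 [] = [([], 1)] := by decide +kernel
      rw [hp]
      simp [FullCert.pathElt, Setting.el_nil]
    have htc : setting.t * toHN cP = toHN cP * setting.t := by
      have : setting.t ∈ M := htop ▸ Subgroup.mem_top _
      exact Subgroup.mem_centralizer_singleton_iff.1 this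
    have hxx := setting.conj_word [0, 0] (by decide) 1
    rw [pow_one, one_mul, show chiWord [0, 0] = 4 from rfl] at hxx
    change setting.t * toHN cP = toHN cP * setting.t ^ 4 at hxx
    rw [htc] at hxx
    have h4 : setting.t = setting.t ^ 4 := mul_left_cancel hxx
    refine t_ne ?_
    have h5 := setting.t5
    have h8 : setting.t ^ 2 = 1 := by
      rw [pow_succ, ← h4] at h5
      rw [sq]; exact h5
    calc setting.t = setting.t ^ 5 * ((setting.t ^ 2) ^ 2)⁻¹ := by group
      _ = 1 := by rw [setting.t5, h8]; simp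

theorem stab_card_pos {i : ℕ} (hi : i < 9) : Nat.card (stab allNodes i) ≠ 0 := by
  rw [card_stab_all i hi]
  interval_cases i <;> decide

/-- Fixed points of a subgroup of `P`: only nodes whose stabiliser has order divisible by its order. -/
theorem fixed_node {H : Subgroup (PresentedGroup pres)} {i : Fin fullCert.C.nds.length}
    {p : PresentedGroup pres} (h : ∀ q ∈ H, fullCert.C.right q (fullCert.C.pt i p) = fullCert.C.pt i p) :
    Nat.card H ∣ Nat.card (stab allNodes i.1) := by
  have hle : H.map (MulAut.conj p).toMonoidHom ≤ stab allNodes i.1 := by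
    rintro _ ⟨q, hq, rfl⟩
    have := h q hq
    rw [Cert.right_pt, Cert.pt_eq_iff] at this
    change _ ∈ stab allNodes i.1 at this
    simpa [MulAut.conj_apply, mul_assoc] using this
  have := Subgroup.card_dvd_of_le hle
  rwa [Subgroup.card_map_of_injective (MulEquiv.injective _)] at this

/-- The element of order 11. -/
noncomputable def uP : PresentedGroup pres := val trip.u

theorem uP_order : orderOf uP = 11 := by
  haveI : Fact (Nat.Prime 11) := ⟨by norm_num⟩
  refine orderOf_eq_prime ?_ (val_ne_one (by decide +kernel) (by decide +kernel))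
  rw [uP, ← val_replicate, ← val_nil]
  exact val_eq_of_wordEq (by decide +kernel)

/-- An involution commuting with the element of order 11 is the central one. -/
theorem invol_cent_u {a : Cfsg.Spor.HN} (ha : a * a = 1) (ha1 : a ≠ 1)
    (hau : a * toHN uP = toHN uP * a) : a = toHN cP := by
  haveI := finite
  obtain ⟨i, p, hy⟩ := fullCert.C.pt_surjective (fullCert.hom a fullCert.base)
  have hfix : ∀ q ∈ Subgroup.zpowers uP,
      fullCert.C.right q (fullCert.C.pt i p) = fullCert.C.pt i p := by
    intro q hq
    obtain ⟨n, rfl⟩ := Subgroup.mem_zpowers_iff.1 hq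
    have h1 : fullCert.hom (toHN (uP ^ n)⁻¹) (fullCert.C.pt i p) = fullCert.C.pt i p := by
      have hc : toHN (uP ^ n)⁻¹ * a = a * toHN (uP ^ n)⁻¹ := by
        rw [map_inv, map_zpow]
        exact (((show Commute a (toHN uP) from hau).zpow_right n).inv_right).eq.symm
      rw [hy, ← Equiv.Perm.mul_apply, ← map_mul, hc, map_mul, Equiv.Perm.mul_apply, fullCert.base_fix]
    rw [FullCert.hom_toHN] at h1
    change fullCert.C.right (uP ^ n)⁻¹⁻¹ (fullCert.C.pt i p) = fullCert.C.pt i p at h1
    rwa [inv_inv] at h1
  have hdvd := fixed_node hfix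
  rw [Nat.card_zpowers, uP_order, card_stab_all i.1 i.2] at hdvd
  have hi0 : i.1 = 0 := by
    have hi : i.1 < 9 := lt_of_lt_of_eq i.2 nodes_len
    by_contra h0
    interval_cases h : i.1 <;> revert hdvd h0 <;> decide
  have hbase : fullCert.hom a fullCert.base = fullCert.base := by
    rw [← hy]
    have : i = zero' := Fin.ext hi0
    subst this
    change fullCert.C.pt zero' p = fullCert.C.pt zero' 1
    rw [Cert.pt_eq_iff]
    change _ ∈ stab fullCert.C.nds 0
    rw [fullCert.stab_zero]
    trivial
  obtain ⟨q, rfl⟩ := (fullCert.exact.2 _).2 hbase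
  have hqu : q * uP = uP * q := toHN_injective (by rw [map_mul, map_mul, hau])
  obtain ⟨w, hw, rfl⟩ := CentCert.sound centU_tabOK centU_chainOK centU_searchOK hqu
  have hlist : ∀ w ∈ centU.list, okWord w = true ∧ (wordEq (w ++ w) [] = false ∨
      wordEq w [] = true ∨ wordEq w [0, 0] = true) := by decide +kernel
  obtain ⟨hok, h | h | h⟩ := hlist w hw
  · refine absurd ?_ (val_ne_one (okWord_append hok hok) h)
    rw [val_append]
    exact toHN_eq_one.1 (by rw [map_mul, ha])
  · exact absurd (by rw [val_eq_of_wordEq h, val_nil, map_one]) ha1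
  · rw [val_eq_of_wordEq h]; rfl

theorem k0_card : Nat.card (genGroup k0Gens) = 126000 := by
  have hle1 : genGroup k0Gens ≤ stab allNodes 1 := by
    refine (Subgroup.closure_le _).2 ?_
    rintro _ ⟨s, hs, rfl⟩
    have hc : ∀ s ∈ k0Gens, okWord s = true ∧ scan 6 table s 0 = 0 := by decide +kernel
    obtain ⟨hok, h0⟩ := hc s hs
    exact (stab1_iff _).2 (by rw [imgPt_word _ hok (by omega : 0 < 1408), h0])
  have hle2 : stab allNodes 1 ≤ genGroup k0Gens := by
    refine (Subgroup.closure_le _).2 ?_
    rintro _ ⟨s, hs, rfl⟩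
    obtain ⟨j, hj, rfl⟩ := List.mem_iff_getElem.1 hs
    have hj2 : (nodeAt allNodes 1).gens.length = 2 := by decide +kernel
    have hc : ∀ j < 2, wordEq ((nodeAt allNodes 1).gens.getD j [])
        (genWord k0Gens (node1InK0.getD j [])) = true := by decide +kernel
    have hk : ∀ s ∈ k0Gens, okWord s = true := by decide +kernel
    have := val_eq_of_wordEq (hc j (hj2 ▸ hj))
    rw [List.getD_eq_getElem _ _ hj] at this
    rw [this]
    exact (genWord_spec hk _).2
  rw [le_antisymm hle1 hle2, card_stab_all 1 (by omega)]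
  rfl

/-- Elements of `P` commuting with the kernel of the character. -/
theorem cent_k0 {q : PresentedGroup pres} (h : ∀ s ∈ k0Gens, q * val s = val s * q) :
    q = 1 ∨ q = cP := by
  have hv : q * val centV.w = val centV.w * q := by
    have hw : wordEq (vWord.map fun i => k0Gens.getD i []).flatten centV.w = true := by decide +kernel
    have hm : ∀ i ∈ vWord, i < k0Gens.length := by decide +kernel
    rw [← val_eq_of_wordEq hw]
    clear hw
    generalize vWord = l at hm
    induction l with
    | nil => simp [val_nil]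
    | cons i l ih =>
      rw [List.map_cons, List.flatten_cons, val_append]
      have hi := hm i List.mem_cons_self
      have h1 : Commute q (val (k0Gens.getD i [])) :=
        h _ (List.getD_eq_getElem k0Gens [] hi ▸ List.getElem_mem hi)
      exact h1.mul_right (ih fun x hx => hm x (List.mem_cons_of_mem _ hx))
  obtain ⟨w, hw, rfl⟩ := CentCert.sound centV_tabOK centV_chainOK centV_searchOK hv
  have hlist : ∀ w ∈ centV.list, okWord w = true ∧
      ((∃ s ∈ k0Gens, okWord s = true ∧ wordEq (w ++ s) (s ++ w) = false) ∨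
        wordEq w [] = true ∨ wordEq w [0, 0] = true) := by decide +kernel
  obtain ⟨hok, ⟨s, hs, hoks, hne⟩ | h' | h'⟩ := hlist w hw
  · rw [wordEq_of_val (okWord_append hok hoks) (okWord_append hoks hok)
      (by rw [val_append, val_append, h s hs])] at hne
    exact Bool.noConfusion hne
  · exact Or.inl (by rw [val_eq_of_wordEq h', val_nil])
  · exact Or.inr (val_eq_of_wordEq h')

theorem t_comm_k0 (a : ℕ) {s : List ℕ} (hs : s ∈ k0Gens) :
    setting.t ^ a * toHN (val s) = toHN (val s) * setting.t ^ a := by
  have hc : ∀ s ∈ k0Gens, chiWord s = 1 := by decide +kernel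
  have := setting.conj_word s (by rw [hc s hs]; omega) a
  rw [hc s hs, mul_one] at this
  exact this

/-- The possible images of `t`. -/
theorem t_cases {t' : Cfsg.Spor.HN} (h5 : t' ^ 5 = 1) (hk : ∀ s ∈ k0Gens, t' * toHN (val s) = toHN (val s) * t')
    (hz : (toHN (val [4]) * t') ^ 3 = 1) : t' = setting.t ∨ t' = setting.t⁻¹ := by
  haveI := finite
  obtain ⟨i, p, hy⟩ := fullCert.C.pt_surjective (fullCert.hom t'⁻¹ fullCert.base)
  have hfix : ∀ q ∈ genGroup k0Gens, fullCert.C.right q (fullCert.C.pt i p) = fullCert.C.pt i p := by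
    intro q hq
    refine closure_induction_mul
      (p := fun q => fullCert.C.right q (fullCert.C.pt i p) = fullCert.C.pt i p) ?_ ?_ ?_ hq
    · rintro _ ⟨s, hs, rfl⟩
      have h1 : fullCert.hom (toHN (val s)⁻¹) (fullCert.C.pt i p) = fullCert.C.pt i p := by
        have hc : toHN (val s)⁻¹ * t'⁻¹ = t'⁻¹ * toHN (val s)⁻¹ := by
          rw [map_inv, ← mul_inv_rev, ← mul_inv_rev, hk s hs]
        rw [hy, ← Equiv.Perm.mul_apply, ← map_mul, hc, map_mul, Equiv.Perm.mul_apply, fullCert.base_fix]
      rw [FullCert.hom_toHN] at h1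
      change fullCert.C.right (val s)⁻¹⁻¹ (fullCert.C.pt i p) = fullCert.C.pt i p at h1
      rwa [inv_inv] at h1
    · rw [Cert.right_pt, mul_one]
    · intro a b ha hb
      rw [Cert.right_pt, ← mul_assoc, ← Cert.right_pt, ← Cert.right_pt, ha, hb]
  have hdvd := fixed_node hfix
  rw [k0_card, card_stab_all i.1 i.2] at hdvd
  have hi01 : i.1 = 0 ∨ i.1 = 1 := by
    have hi : i.1 < 9 := lt_of_lt_of_eq i.2 nodes_len
    by_contra h0
    interval_cases h : i.1 <;> revert hdvd h0 <;> decide
  rcases hi01 with hi0 | hi1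
  · exfalso
    have : i = zero' := Fin.ext hi0
    subst this
    have hb : fullCert.hom t'⁻¹ fullCert.base = fullCert.base := by
      rw [← hy]
      change fullCert.C.pt zero' p = fullCert.C.pt zero' 1
      rw [Cert.pt_eq_iff]
      change _ ∈ stab fullCert.C.nds 0
      rw [fullCert.stab_zero]; trivial
    obtain ⟨q, hq⟩ := toHN.range.inv_mem ((fullCert.exact.2 _).2 hb)
    rw [inv_inv] at hq
    subst hq
    have hq5 : q ^ 5 = 1 := toHN_eq_one.1 (by rw [map_pow, h5])
    rcases cent_k0 (q := q) (fun s hs => toHN_injective (by rw [map_mul, map_mul, hk s hs])) with rfl | rfl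
    · rw [map_one, mul_one, ← map_pow] at hz
      have hz3 := toHN_eq_one.1 hz
      rw [← val_replicate] at hz3
      exact val_ne_one (by decide) (by decide +kernel) hz3
    · rw [show (5 : ℕ) = 2 + 2 + 1 from rfl, pow_succ, pow_add, sq, cP_sq, one_mul, one_mul] at hq5
      exact cP_ne hq5
  have : i = one' := Fin.ext hi1
  subst this
  have hpF : imgPt p 0 ∈ k0Fix := by
    have hall : allBelow 1408 (fun x => decide (x ∈ k0Fix) ||
        k0Gens.any fun s => !(Nat.beq (scan 6 table s x) x)) = true := by decide +kernel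
    have hx := allBelow_iff.1 hall _ (imgPt_lt p 0)
    simp only [Bool.or_eq_true, decide_eq_true_eq, List.any_eq_true, Bool.not_eq_true',
      ← Bool.not_eq_true, Nat.beq_eq] at hx
    rcases hx with hx | ⟨s, hs, hne⟩
    · exact hx
    · exfalso
      refine hne ?_
      have hok : ∀ s ∈ k0Gens, okWord s = true := by decide +kernel
      have h1 := hfix (val s) (Subgroup.subset_closure ⟨s, hs, rfl⟩)
      rw [Cert.right_pt, pt1_eq, imgPt_mul _ _ (by omega : 0 < 1408)] at h1
      rw [← imgPt_word _ (hok s hs) (imgPt_lt p 0)]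
      exact h1
  obtain ⟨a, ha1, ha5, hta⟩ : ∃ a, 1 ≤ a ∧ a < 5 ∧
      fullCert.hom (setting.t ^ a)⁻¹ fullCert.base = fullCert.C.pt one' p := by
    have hsteps : ∀ f ∈ k0Fix, ∃ a ∈ [1, 2, 3, 4],
        (match walkPath blocks allNodes [([], a)] (tSteps.getD (a - 1) []) 0 [] with
          | none => false
          | some q => Nat.beq q.1 1 && okWord q.2 && Nat.beq (scan 6 table q.2 0) f) = true := by
      decide +kernel
    obtain ⟨a, ha, hw⟩ := hsteps _ hpF
    cases hwp : walkPath blocks allNodes [([], a)] (tSteps.getD (a - 1) []) 0 [] with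
    | none => rw [hwp] at hw; simp at hw
    | some q =>
      rw [hwp] at hw
      simp only [Bool.and_eq_true, Nat.beq_eq] at hw
      obtain ⟨⟨h1, hok⟩, hsc⟩ := hw
      obtain ⟨hq, he⟩ := walk_base hwp
      obtain ⟨j, v⟩ := q
      dsimp only at h1 hok hsc
      subst h1
      refine ⟨a, ?_, ?_, ?_⟩
      · fin_cases ha <;> omega
      · fin_cases ha <;> omega
      have hpe : FullCert.pathElt [([], a)] = setting.t ^ a := by
        simp [FullCert.pathElt, Setting.el_nil]
      rw [← hpe, he]
      exact pt1_eq.2 (by rw [imgPt_word _ hok (by omega : 0 < 1408), hsc])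
  have hb : fullCert.hom (setting.t ^ a * t'⁻¹) fullCert.base = fullCert.base := by
    rw [map_mul, Equiv.Perm.mul_apply, ← hy, ← hta, ← Equiv.Perm.mul_apply, ← map_mul,
      mul_inv_cancel, map_one, Equiv.Perm.one_apply]
  obtain ⟨q, hq⟩ := toHN.range.inv_mem ((fullCert.exact.2 _).2 hb)
  rw [mul_inv_rev, inv_inv] at hq
  have ht' : t' = toHN q * setting.t ^ a := by rw [hq]; group
  have hqk : ∀ s ∈ k0Gens, q * val s = val s * q := by
    intro s hs
    refine toHN_injective ?_
    rw [map_mul, map_mul, hq]
    have h1 : Commute t' (toHN (val s)) := hk s hs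
    exact (h1.mul_left (show Commute (setting.t ^ a) (toHN (val s)) from t_comm_k0 a hs).inv_left).eq
  rcases cent_k0 hqk with rfl | rfl
  swap
  · exfalso
    have hcomm : setting.t ^ a * toHN cP = toHN cP * setting.t ^ (a * 4) := by
      have := setting.conj_word [0, 0] (by decide) a
      rw [show chiWord [0, 0] = 4 from rfl] at this
      exact this
    have h2 : t' ^ 2 = 1 := by
      rw [ht', sq, show toHN cP * setting.t ^ a * (toHN cP * setting.t ^ a) =
        toHN cP * (setting.t ^ a * toHN cP) * setting.t ^ a by simp only [mul_assoc],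
        hcomm, ← mul_assoc, ← map_mul, cP_sq, map_one, one_mul, ← pow_add,
        show a * 4 + a = 5 * a by ring, pow_mul, setting.t5, one_pow]
    have h1 : t' = 1 := by
      rw [show (5 : ℕ) = 2 + 2 + 1 from rfl, pow_succ, pow_add, h2, one_mul, one_mul] at h5
      exact h5
    rw [h1, inv_one, map_one, Equiv.Perm.one_apply] at hy
    have := congrArg (fun x : fullCert.C.Pts => x.1.1) hy
    simp [one', FullCert.base, Cert.pt] at this
  rw [map_one, one_mul] at ht'
  subst ht'
  interval_cases a
  · left; rw [pow_one]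
  · exfalso
    have hbad : movesBase [([4], 2), ([4], 2), ([4], 2)] (badSteps.getD 0 []) = true := by
      decide +kernel
    refine elt_ne_one hbad ?_
    simp only [FullCert.pathElt, List.map_cons, List.map_nil, List.prod_cons, List.prod_nil, mul_one]
    rw [pow_three] at hz
    exact hz
  · exfalso
    have hbad : movesBase [([4], 3), ([4], 3), ([4], 3)] (badSteps.getD 1 []) = true := by
      decide +kernel
    refine elt_ne_one hbad ?_
    simp only [FullCert.pathElt, List.map_cons, List.map_nil, List.prod_cons, List.prod_nil, mul_one]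
    rw [pow_three] at hz
    exact hz
  · right
    exact eq_inv_of_mul_eq_one_left (by rw [← pow_succ]; exact setting.t5)

theorem hom_ext {f g : Cfsg.Spor.HN →* Cfsg.Spor.HN} (hP : ∀ p, f (toHN p) = g (toHN p))
    (ht : f setting.t = g setting.t) : ∀ z, f z = g z := by
  intro z
  refine DFunLike.congr_fun (MonoidHom.eq_of_eqOn_dense gens_top ?_) z
  rintro y (⟨p, rfl⟩ | rfl)
  · exact hP p
  · exact ht

/-- An automorphism fixing the image of `P` pointwise is inner. -/
theorem inner_of_fix (φ : MulAut Cfsg.Spor.HN) (h : ∀ p, φ (toHN p) = toHN p) : φ ∈ Inn Cfsg.Spor.HN := by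
  have h5 : (φ setting.t) ^ 5 = 1 := by rw [← map_pow, setting.t5, map_one]
  have hk : ∀ s ∈ k0Gens, φ setting.t * toHN (val s) = toHN (val s) * φ setting.t := by
    intro s hs
    have := congrArg φ (t_comm_k0 1 hs)
    rwa [pow_one, map_mul, map_mul, h] at this
  have hz : (toHN (val [4]) * φ setting.t) ^ 3 = 1 := by
    rw [← h (val [4]), ← map_mul, ← map_pow]
    exact (congrArg φ setting.zt).trans (map_one φ)
  rcases t_cases h5 hk hz with ht | ht
  · refine ⟨1, ?_⟩
    rw [map_one]
    refine MulEquiv.ext fun z => (hom_ext (f := φ.toMonoidHom) (g := MonoidHom.id _) h ht z).symm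
  · refine ⟨toHN cP, MulEquiv.ext fun z => ?_⟩
    refine (hom_ext (f := φ.toMonoidHom) (g := (MulAut.conj (toHN cP)).toMonoidHom) ?_ ?_ z).symm
    · intro p
      change φ (toHN p) = toHN cP * toHN p * (toHN cP)⁻¹
      rw [h, ← map_mul, ← cP_comm, map_mul, mul_inv_cancel_right]
    · change φ setting.t = toHN cP * setting.t * (toHN cP)⁻¹
      rw [ht]
      have := setting.conj_word [0, 0] (by decide) 4
      rw [show chiWord [0, 0] = 4 from rfl] at this
      change setting.t ^ 4 * toHN cP = toHN cP * setting.t ^ (4 * 4) at this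
      rw [← setting.tpow_mod (4 * 4), pow_one] at this
      rw [← this, mul_inv_cancel_right]
      exact inv_eq_of_mul_eq_one_right (by rw [← pow_succ']; exact setting.t5)

theorem phi0_bijective : Function.Bijective phi0 := by
  haveI := simple_HN
  have hinj : Function.Injective phi0 := by
    rw [← MonoidHom.ker_eq_bot_iff]
    refine (MonoidHom.normal_ker phi0).eq_bot_or_eq_top.resolve_right fun h => ?_
    have : phi0 setting.t = 1 := by rw [← MonoidHom.mem_ker, h]; trivial
    rw [phi0_t] at this
    refine t_ne ?_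
    calc setting.t = setting.t ^ 5 * ((setting.t ^ 2) ^ 2)⁻¹ := by group
      _ = 1 := by rw [setting.t5, this]; simp
  exact ⟨hinj, Finite.injective_iff_surjective.1 hinj⟩

/-- The outer automorphism. -/
noncomputable def outer : MulAut Cfsg.Spor.HN := MulEquiv.ofBijective phi0 phi0_bijective

theorem outer_toHN (p : PresentedGroup pres) : outer (toHN p) = toHN (psi p) := phi0_toHN p

theorem outer_not_inner : outer ∉ Inn Cfsg.Spor.HN := by
  rintro ⟨g, hg⟩
  have hconj : ∀ p, toHN (psi p) = g * toHN p * g⁻¹ := fun p => by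
    rw [← outer_toHN, ← hg, MulAut.conj_apply]
  have hfix : ∀ w : List ℕ, okWord w = true → wordEq (psiWord w) w = true →
      g * toHN (val w) = toHN (val w) * g := by
    intro w hw he
    have := hconj (val w)
    rw [psi_val w hw, val_eq_of_wordEq he] at this
    exact eq_mul_inv_iff_mul_eq.1 this |>.symm
  have hgc : g * toHN cP = toHN cP * g := hfix [0, 0] (by decide) (by decide +kernel)
  obtain ⟨q, rfl⟩ := (range_eq_centralizer g).2 hgc
  have hq : ∀ s ∈ k0Gens, q * val s = val s * q := by
    intro s hs
    have hc : ∀ s ∈ k0Gens, okWord s = true ∧ wordEq (psiWord s) s = true := by decide +kernel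
    exact toHN_injective (by rw [map_mul, map_mul, hfix s (hc s hs).1 (hc s hs).2])
  have hz : psi (val [4]) = val [4] := by
    refine toHN_injective ?_
    rw [hconj, ← map_mul, ← map_inv, ← map_mul]
    congr 1
    rcases cent_k0 hq with rfl | rfl
    · simp
    · rw [← cP_comm, mul_inv_cancel_right]
  rw [psi_val _ (by decide)] at hz
  have : wordEq (psiWord [4]) [4] = false := by decide +kernel
  rw [wordEq_of_val (by decide) (by decide) hz] at this
  exact Bool.noConfusion this

/-- Every automorphism is inner or inner times the outer one. -/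
theorem cases_aut (φ : MulAut Cfsg.Spor.HN) :
    φ ∈ Inn Cfsg.Spor.HN ∨ outer⁻¹ * φ ∈ Inn Cfsg.Spor.HN := by
  haveI : Fact (Nat.Prime 11) := ⟨by norm_num⟩
  set U := toHN uP with hU
  have hoU : orderOf U = 11 := by rw [hU, orderOf_injective toHN toHN_injective, uP_order]
  have hoV : orderOf (φ U) = 11 :=
    (orderOf_injective φ.toMonoidHom φ.injective U).trans hoU
  have hzc : ∀ v : Cfsg.Spor.HN, orderOf v = 11 →
      Nat.card (Subgroup.zpowers v) = 11 ^ (Nat.card Cfsg.Spor.HN).factorization 11 := by
    intro v hv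
    have h1 : (273030912000000 : ℕ).factorization 11 = 1 := by
      have a1 : 1 ≤ (273030912000000 : ℕ).factorization 11 :=
        ((by norm_num : Nat.Prime 11).pow_dvd_iff_le_factorization (by norm_num)).1 (by norm_num)
      have a2 : ¬ 2 ≤ (273030912000000 : ℕ).factorization 11 := fun hh =>
        absurd (((by norm_num : Nat.Prime 11).pow_dvd_iff_le_factorization (by norm_num)).2 hh) (by norm_num)
      omega
    rw [Nat.card_zpowers, hv, card_HN, h1, pow_one]
  obtain ⟨g, hg⟩ := MulAction.exists_smul_eq Cfsg.Spor.HN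
    (Sylow.ofCard _ (hzc U hoU)) (Sylow.ofCard _ (hzc (φ U) hoV))
  have hgmem : g⁻¹ * φ U * g ∈ Subgroup.zpowers U := by
    have : φ U ∈ ((g • Sylow.ofCard _ (hzc U hoU) : Sylow 11 _) : Subgroup Cfsg.Spor.HN) := by
      rw [hg]; exact Subgroup.mem_zpowers _
    rw [Sylow.coe_subgroup_smul, Subgroup.mem_pointwise_smul_iff_inv_smul_mem] at this
    simpa [MulAut.smul_def, mul_assoc] using this
  obtain ⟨k, hk⟩ := Subgroup.mem_zpowers_iff.1 hgmem
  set φ' : MulAut Cfsg.Spor.HN := MulAut.conj g⁻¹ * φ with hφ'
  have hφ'U : φ' U = U ^ k := by rw [hk, hφ', MulAut.mul_apply, MulAut.conj_apply, inv_inv]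
  have hcfix : φ' (toHN cP) = toHN cP := by
    refine invol_cent_u ?_ ?_ ?_
    · rw [← map_mul, ← map_mul, cP_sq, map_one, map_one]
    · intro h
      exact cP_ne (toHN_eq_one.1 (φ'.injective (by rw [h, map_one])))
    · have h1 : φ' (toHN cP) * φ' U = φ' U * φ' (toHN cP) := by
        rw [← map_mul, ← map_mul, hU, ← map_mul, ← map_mul, cP_comm]
      have h2 : Commute (φ' (toHN cP)) (φ' U) := h1
      have h3 : U ∈ Subgroup.zpowers (φ' U) := by
        haveI : Finite (Subgroup.zpowers U) := inferInstance
        have hle : Subgroup.zpowers (φ' U) ≤ Subgroup.zpowers U := by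
          rw [Subgroup.zpowers_le, hφ'U]; exact Subgroup.zpow_mem_zpowers _ _
        have heq := Subgroup.eq_of_le_of_card_ge hle (by
          rw [Nat.card_zpowers, Nat.card_zpowers, hoU,
            show orderOf (φ' U) = orderOf U from orderOf_injective φ'.toMonoidHom φ'.injective U, hoU])
        rw [heq]; exact Subgroup.mem_zpowers _
      obtain ⟨m, hm⟩ := Subgroup.mem_zpowers_iff.1 h3
      rw [← hU, ← hm]
      exact (h2.zpow_right m).eq
  have hrange : ∀ p, φ' (toHN p) ∈ toHN.range := by
    intro p
    rw [range_eq_centralizer]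
    conv_lhs => rw [← hcfix]
    conv_rhs => rw [← hcfix]
    rw [← map_mul, ← map_mul, ← map_mul, ← map_mul, cP_comm]
  let β : PresentedGroup pres →* PresentedGroup pres :=
    (MonoidHom.ofInjective toHN_injective).symm.toMonoidHom.comp
      ((φ'.toMonoidHom.comp toHN).codRestrict toHN.range hrange)
  have hβ : ∀ p, toHN (β p) = φ' (toHN p) := by
    intro p
    change ((MonoidHom.ofInjective toHN_injective)
      ((MonoidHom.ofInjective toHN_injective).symm ⟨φ' (toHN p), hrange p⟩)).1 = _
    rw [MulEquiv.apply_symm_apply]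
  have hβinj : Function.Injective β := by
    intro a b hab
    have := congrArg toHN hab
    rw [hβ, hβ] at this
    exact toHN_injective (φ'.injective this)
  have hinnφ : MulAut.conj g⁻¹ ∈ Inn Cfsg.Spor.HN := ⟨_, rfl⟩
  obtain ⟨q, hq | hq⟩ := aut_P β hβinj
  · left
    have hfix : MulAut.conj (toHN q)⁻¹ * φ' ∈ Inn Cfsg.Spor.HN := inner_of_fix _ fun p => by
      rw [MulAut.mul_apply, MulAut.conj_apply, ← hβ, hq, map_mul, map_mul, map_inv]
      group
    have h1 := (Inn Cfsg.Spor.HN).mul_mem ((Inn Cfsg.Spor.HN).inv_mem hinnφ)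
      ((Inn Cfsg.Spor.HN).mul_mem ⟨toHN q, rfl⟩ hfix)
    convert h1 using 1
    rw [hφ']
    simp only [map_inv]
    group
  · right
    have hfix : outer⁻¹ * (MulAut.conj (toHN q)⁻¹ * φ') ∈ Inn Cfsg.Spor.HN := inner_of_fix _ fun p => by
      have e1 : MulAut.conj (toHN q)⁻¹ (φ' (toHN p)) = outer (toHN p) := by
        rw [MulAut.conj_apply, ← hβ, hq, map_mul, map_mul, map_inv, outer_toHN]
        group
      rw [MulAut.mul_apply, MulAut.mul_apply, e1, MulAut.inv_apply_self]
    have hn : outer⁻¹ * (MulAut.conj (toHN q)⁻¹ * MulAut.conj g⁻¹) * outer ∈ Inn Cfsg.Spor.HN := by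
      have := (innNormal Cfsg.Spor.HN).conj_mem _
        ((Inn Cfsg.Spor.HN).mul_mem ⟨(toHN q)⁻¹, rfl⟩ hinnφ) outer⁻¹
      rwa [inv_inv] at this
    have h1 := (Inn Cfsg.Spor.HN).mul_mem ((Inn Cfsg.Spor.HN).inv_mem hn) hfix
    convert h1 using 1
    rw [hφ']
    group

theorem card_out : Nat.card (Out Cfsg.Spor.HN) = 2 := by
  have hne : (QuotientGroup.mk outer : Out Cfsg.Spor.HN) ≠ 1 := fun h =>
    outer_not_inner ((QuotientGroup.eq_one_iff _).mp h)
  rw [Nat.card_eq_two_iff]
  refine ⟨QuotientGroup.mk outer, 1, hne, Set.eq_univ_of_forall fun a => ?_⟩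
  obtain ⟨φ, rfl⟩ := QuotientGroup.mk_surjective a
  rcases cases_aut φ with h | h
  · exact Or.inr ((QuotientGroup.eq_one_iff _).mpr h)
  · left
    exact (QuotientGroup.eq.2 h).symm

end Cfsg.Agent.Lib.CosetEnum.HNP.Out
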