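import Cfsg.Agent.Lib.CosetEnum.HNP.Final
import Cfsg.Agent.Lib.CosetEnum.HNP.Out.Check

/-!
Deciding equations in the presented group on six points, and the endomorphism inducing the outer
automorphism.
-/

set_option autoImplicit false
set_option maxRecDepth 100000

namespace Cfsg.Agent.Lib.CosetEnum.HNP.Out

open Cfsg.Agent.Lib.CosetEnum Cfsg.Agent.Lib.ExactCover

theorem nodes_len : fullCert.C.nds.length = 9 := rfl

/-- The index of node 0. -/
noncomputable def zero' : Fin fullCert.C.nds.length := ⟨0, by rw [nodes_len]; omega⟩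

/-- The index of node 1. -/
noncomputable def one' : Fin fullCert.C.nds.length := ⟨1, by rw [nodes_len]; omega⟩

theorem node1_imgPt {q : PresentedGroup pres} (hq : q ∈ stab allNodes 1) : imgPt q 0 = 0 := by
  have h := node1_fixes _ ((stab allNodes 1).inv_mem hq)
  rw [imgPt, dif_pos (by omega : 0 < 1408), ← map_inv, h]

theorem stab1_iff (q : PresentedGroup pres) : q ∈ stab allNodes 1 ↔ imgPt q 0 = 0 := by
  haveI := finite
  refine ⟨node1_imgPt, fun h => ?_⟩
  let f : PresentedGroup pres ⧸ stab allNodes 1 → Fin 1408 := fun x =>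
    Quotient.liftOn' x (fun p => (⟨imgPt p⁻¹ 0, imgPt_lt _ _⟩ : Fin 1408)) fun a b hab => by
      rw [QuotientGroup.leftRel_apply] at hab
      apply Fin.ext
      change imgPt a⁻¹ 0 = imgPt b⁻¹ 0
      have h1 := node1_imgPt hab
      rw [imgPt_mul _ _ (by omega : 0 < 1408)] at h1
      have h2 : imgPt (b * b⁻¹) (imgPt a⁻¹ 0) = imgPt a⁻¹ 0 := by
        rw [mul_inv_cancel, imgPt_one (imgPt_lt _ _)]
      rw [← h2, imgPt_mul _ _ (imgPt_lt _ _), h1]
  have hsur : Function.Surjective f := fun x => by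
    obtain ⟨r, hr⟩ := transitive_of_reach act 6 (letters.phi pres) (by omega : 0 < 1408)
      (fun g hg i => act_phi g hg i) reach_ok x
    refine ⟨QuotientGroup.mk r, Fin.ext ?_⟩
    change imgPt r⁻¹ 0 = x.1
    rw [imgPt, dif_pos (by omega : 0 < 1408), map_inv, inv_inv, hr]
  have hinj : Function.Injective f :=
    ((Nat.bijective_iff_surjective_and_card f).2 ⟨hsur, by
      rw [Nat.card_fin]; exact index_stab 1 (by omega)⟩).1
  have he : f (QuotientGroup.mk q⁻¹) = f (QuotientGroup.mk 1) := Fin.ext (by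
    change imgPt q⁻¹⁻¹ 0 = imgPt (1 : PresentedGroup pres)⁻¹ 0
    rw [inv_inv, inv_one, h, imgPt_one (by omega)])
  have := hinj he
  rw [QuotientGroup.eq, inv_inv, mul_one] at this
  exact this

theorem pt1_eq {p q : PresentedGroup pres} :
    fullCert.C.pt one' p = fullCert.C.pt one' q ↔ imgPt p 0 = imgPt q 0 := by
  rw [Cert.pt_eq_iff]
  change p * q⁻¹ ∈ stab allNodes 1 ↔ _
  rw [stab1_iff, imgPt_mul _ _ (by omega : 0 < 1408)]
  constructor
  · intro h
    have h2 : imgPt (q⁻¹ * q) (imgPt p 0) = imgPt q 0 := by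
      rw [imgPt_mul _ _ (imgPt_lt _ _), h]
    rwa [inv_mul_cancel, imgPt_one (imgPt_lt _ _)] at h2
  · intro h
    rw [h, ← imgPt_mul _ _ (by omega : 0 < 1408), mul_inv_cancel, imgPt_one (by omega)]

/-- A product along a path fixes the six points. -/
noncomputable def endOK (ps : List (List ℕ × ℕ)) (s0 : List StepCert) (ss : List (List StepCert))
    (rs : List (List ℕ)) : Bool :=
  (match walkPath blocks allNodes ps s0 0 [] with
   | none => false
   | some q => Nat.beq q.1 0) &&
  allBelow 5 fun c =>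
    okWord (rs.getD c []) && Nat.beq (scan 6 table (rs.getD c []) 0) (basePt c) &&
    match walkPath blocks allNodes ps (ss.getD c []) 1 (rs.getD c []) with
    | none => false
    | some q => Nat.beq q.1 1 && okWord q.2 && Nat.beq (scan 6 table q.2 0) (basePt c)

theorem walk_base {ps : List (List ℕ × ℕ)} {ss : List StepCert} {q : ℕ × List ℕ}
    (h : walkPath blocks allNodes ps ss 0 [] = some q) :
    ∃ hq : q.1 < fullCert.C.nds.length,
      fullCert.hom (FullCert.pathElt ps)⁻¹ fullCert.base = fullCert.C.pt ⟨q.1, hq⟩ (val q.2) := by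
  have h0 := fullCert.walk_sound ps ss ⟨0, by rw [nodes_len]; omega⟩ [] 1 q h (by
    rw [inv_one, map_one, val_nil]; rfl)
  rwa [one_mul] at h0

theorem elt_eq_one {ps : List (List ℕ × ℕ)} {s0 : List StepCert} {ss : List (List StepCert)}
    {rs : List (List ℕ)} (h : endOK ps s0 ss rs = true) : FullCert.pathElt ps = 1 := by
  simp only [endOK, Bool.and_eq_true, allBelow_iff, Nat.beq_eq] at h
  obtain ⟨hb, hrest⟩ := h
  cases hw : walkPath blocks allNodes ps s0 0 [] with
  | none => simp [hw] at hb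
  | some q =>
    simp only [hw, Nat.beq_eq] at hb
    obtain ⟨hq, he⟩ := walk_base hw
    obtain ⟨i, u⟩ := q
    dsimp only at hb
    subst hb
    have hbase : fullCert.hom (FullCert.pathElt ps)⁻¹ fullCert.base = fullCert.base := by
      rw [he, FullCert.base, Cert.pt_eq_iff, fullCert.stab_zero]
      trivial
    obtain ⟨e, hE⟩ := (fullCert.exact.2 _).2 hbase
    suffices e = 1 by
      rw [this, map_one] at hE
      exact inv_eq_one.1 hE.symm
    refine inv_eq_one.1 (eq_of_imgPt fun c hc => ?_)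
    rw [imgPt_one (basePt_lt c)]
    obtain ⟨⟨hok, hr⟩, hwk⟩ := hrest c hc
    cases hw1 : walkPath blocks allNodes ps (ss.getD c []) 1 (rs.getD c []) with
    | none => rw [hw1] at hwk; simp at hwk
    | some q1 =>
      simp only [hw1, Bool.and_eq_true, Nat.beq_eq] at hwk
      obtain ⟨⟨h1, hok1⟩, hsc⟩ := hwk
      obtain ⟨hq1, he1⟩ := fullCert.walk_sound ps (ss.getD c []) one' (rs.getD c [])
        (fullCert.g 1 * toHN (val (rs.getD c []))) q1 hw1 (fullCert.hom_point one' _)
      obtain ⟨j, v⟩ := q1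
      dsimp only at h1 hok1 hsc
      subst h1
      rw [mul_inv_rev, map_mul, Equiv.Perm.mul_apply,
        show (fullCert.g 1 * toHN (val (rs.getD c [])))⁻¹ =
          (fullCert.g one'.1 * toHN (val (rs.getD c [])))⁻¹ from rfl,
        fullCert.hom_point one', ← hE, FullCert.hom_toHN] at he1
      change fullCert.C.right e⁻¹ (fullCert.C.pt one' _) = fullCert.C.pt one' (val v) at he1
      rw [Cert.right_pt, pt1_eq, imgPt_mul _ _ (by omega : 0 < 1408),
        imgPt_word _ hok (by omega : 0 < 1408), hr, imgPt_word _ hok1 (by omega : 0 < 1408), hsc] at he1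
      exact he1

/-- A product along a path moves the base point to another node. -/
noncomputable def movesBase (ps : List (List ℕ × ℕ)) (ss : List StepCert) : Bool :=
  match walkPath blocks allNodes ps ss 0 [] with
  | none => false
  | some q => !(Nat.beq q.1 0)

theorem elt_ne_one {ps : List (List ℕ × ℕ)} {ss : List StepCert}
    (h : movesBase ps ss = true) : FullCert.pathElt ps ≠ 1 := by
  rw [movesBase] at h
  intro h1
  cases hw : walkPath blocks allNodes ps ss 0 [] with
  | none => simp [hw] at h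
  | some q =>
    simp only [hw, Bool.not_eq_true', ← Bool.not_eq_true, Nat.beq_eq] at h
    obtain ⟨hq, he⟩ := walk_base hw
    rw [h1, inv_one, map_one, Equiv.Perm.one_apply] at he
    exact h (congrArg (fun x : fullCert.C.Pts => x.1.1) he).symm

theorem zct_eq : FullCert.pathElt [([4, 0, 0], 2), ([4, 0, 0], 2), ([4, 0, 0], 2)] = 1 :=
  elt_eq_one (s0 := relSteps.getD 0 []) (ss := relSteps.tail) (rs := baseReps) (by decide +kernel)

/-- Images of the generators. -/
noncomputable def phi0Gen : Cfsg.Spor.HN.Gen → Cfsg.Spor.HN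
  | .x => toHN (val [0])
  | .y => toHN (val [2])
  | .z => toHN (val [4, 0, 0])
  | .t => setting.t ^ 2

theorem phi0_rels : ∀ r ∈ hnRels, FreeGroup.lift phi0Gen r = 1 := by
  rintro r (⟨x, hx, -⟩ | hr)
  · simp [Cfsg.Spor.coxNodes, Cfsg.Spor.HN.edges] at hx
  have hlast : r ∈ relWords.map (fun l => FreeGroup.map xyz (FreeGroup.mk (l.map (stdSym 3)))) ++
      [Cfsg.Spor.HN.t ^ 5, (Cfsg.Spor.HN.x⁻¹ * Cfsg.Spor.HN.t * Cfsg.Spor.HN.x) * Cfsg.Spor.HN.t ^ 2,
       Cfsg.Spor.HN.t⁻¹ * Cfsg.Spor.HN.y⁻¹ * Cfsg.Spor.HN.t * Cfsg.Spor.HN.y,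
       (Cfsg.Spor.HN.z * Cfsg.Spor.HN.t) ^ 3] := by
    have he : relWords.map (fun l => FreeGroup.map xyz (FreeGroup.mk (l.map (stdSym 3)))) ++
        [Cfsg.Spor.HN.t ^ 5, (Cfsg.Spor.HN.x⁻¹ * Cfsg.Spor.HN.t * Cfsg.Spor.HN.x) * Cfsg.Spor.HN.t ^ 2,
         Cfsg.Spor.HN.t⁻¹ * Cfsg.Spor.HN.y⁻¹ * Cfsg.Spor.HN.t * Cfsg.Spor.HN.y,
         (Cfsg.Spor.HN.z * Cfsg.Spor.HN.t) ^ 3] = Cfsg.Spor.HN.extra := by decide +kernel
    rw [he]; exact hr
  rcases List.mem_append.1 hlast with h | h
  · obtain ⟨l, hl, rfl⟩ := List.mem_map.1 h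
    have h : (FreeGroup.lift phi0Gen).comp (FreeGroup.map xyz) =
        (toHN.comp psi).comp (PresentedGroup.mk pres) :=
      FreeGroup.ext_hom _ _ fun i => by
        have hp : psi (PresentedGroup.of i) =
            (![val [0], val [2], val [4, 0, 0]] : Fin 3 → PresentedGroup pres) i :=
          PresentedGroup.toGroup.of psi_rels
        simp only [MonoidHom.comp_apply, FreeGroup.map.of, FreeGroup.lift_apply_of]
        change phi0Gen (xyz i) = toHN (psi (PresentedGroup.of i))
        rw [hp]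
        fin_cases i <;> rfl
    rw [← MonoidHom.comp_apply, h, MonoidHom.comp_apply,
      show PresentedGroup.mk pres (FreeGroup.mk (l.map (stdSym 3))) = 1 from
        PresentedGroup.one_of_mem (List.mem_map.2 ⟨l, hl, rfl⟩), map_one]
  simp only [List.mem_cons, List.not_mem_nil, or_false] at h
  rcases h with rfl | rfl | rfl | rfl
  · simp only [map_pow, FreeGroup.lift_apply_of, phi0Gen]
    rw [← pow_mul, mul_comm, pow_mul, setting.t5, one_pow]
  · simp only [map_mul, map_pow, map_inv, FreeGroup.lift_apply_of, phi0Gen]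
    have hx : (setting.π (val [0]))⁻¹ * setting.t * setting.π (val [0]) = setting.t ^ 3 := setting.xt
    have h6 : (toHN (val [0]))⁻¹ * setting.t ^ 2 * toHN (val [0]) = setting.t ^ 6 := by
      rw [show (6 : ℕ) = 3 * 2 from rfl, pow_mul, ← hx, show setting.π = toHN from rfl, sq, sq]
      group
    rw [h6, ← pow_mul, ← pow_add, show (6 + 2 * 2 : ℕ) = 5 * 2 from rfl, pow_mul, setting.t5, one_pow]
  · simp only [map_mul, map_inv, FreeGroup.lift_apply_of, phi0Gen]
    have hy : (setting.π (val [2]))⁻¹ * setting.t * setting.π (val [2]) = setting.t := setting.yt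
    rw [mul_assoc, mul_assoc, ← mul_assoc (toHN (val [2]))⁻¹,
      show (toHN (val [2]))⁻¹ * setting.t ^ 2 * toHN (val [2]) =
        ((setting.π (val [2]))⁻¹ * setting.t * setting.π (val [2])) ^ 2 by
          rw [show setting.π = toHN from rfl, sq, sq]; group, hy, inv_mul_cancel]
  · simp only [map_pow, map_mul, FreeGroup.lift_apply_of, phi0Gen]
    have h := zct_eq
    simp only [FullCert.pathElt, List.map_cons, List.map_nil, List.prod_cons, List.prod_nil, mul_one,
      Setting.el] at h
    rw [pow_three]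
    exact h

/-- The endomorphism `z ↦ z x²`, `t ↦ t²`. -/
noncomputable def phi0 : Cfsg.Spor.HN →* Cfsg.Spor.HN := PresentedGroup.toGroup phi0_rels

theorem phi0_t : phi0 setting.t = setting.t ^ 2 := PresentedGroup.toGroup.of phi0_rels

theorem phi0_toHN (p : PresentedGroup pres) : phi0 (toHN p) = toHN (psi p) := by
  have : phi0.comp toHN = toHN.comp psi := PresentedGroup.ext fun i => by
    have hp : psi (PresentedGroup.of i) =
        (![val [0], val [2], val [4, 0, 0]] : Fin 3 → PresentedGroup pres) i :=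
      PresentedGroup.toGroup.of psi_rels
    rw [MonoidHom.comp_apply, MonoidHom.comp_apply, toHN_of, hp, phi0, PresentedGroup.toGroup.of]
    fin_cases i <;> rfl
  exact DFunLike.congr_fun this p

end Cfsg.Agent.Lib.CosetEnum.HNP.Out
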